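import Cfsg.Agent.CosetEnum.Fi23Order.Order
import Cfsg.Agent.CosetEnum.Fi22Simple.Final
import Cfsg.Prelude.Def_SporadicB

set_option autoImplicit false
set_option maxRecDepth 100000

/-! The point stabiliser in the presented Fi23 is a non-split double cover of Fi22. -/

namespace CfsgLib.CosetEnum.Fi23

open Restrict

/-- A braid relation among letters. -/
theorem braid {x y : ℕ} (h : [x, y, x, y, x, y] ∈ words) (hx : [x, x] ∈ words) (hy : [y, y] ∈ words) :
    setup.g x * setup.g y * setup.g x = setup.g y * setup.g x * setup.g y := by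
  have h1 := setup.prod_mem _ h
  have hx2 : setup.g x * setup.g x = 1 := by simpa [prodw] using setup.prod_mem _ hx
  have hy2 : setup.g y * setup.g y = 1 := by simpa [prodw] using setup.prod_mem _ hy
  simp only [prodw, List.map_cons, List.map_nil, List.prod_cons, List.prod_nil, mul_one] at h1
  have h2 : (setup.g x * setup.g y * setup.g x) * (setup.g y * setup.g x * setup.g y) = 1 := by
    simpa only [mul_assoc] using h1
  rw [eq_inv_of_mul_eq_one_left h2, mul_inv_rev, mul_inv_rev, inv_eq_of_mul_eq_one_right hx2,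
    inv_eq_of_mul_eq_one_right hy2, mul_assoc]

/-- Adjacent letters of the stabiliser. -/
def adjacent : List (ℕ × ℕ) := [(0, 1), (1, 2), (2, 3), (3, 4), (4, 5), (5, 6), (3, 8), (8, 9)]

theorem adjacent_ok : adjacent.all (fun p => decide ([p.1, p.2, p.1, p.2, p.1, p.2] ∈ words ∧
    [p.1, p.1] ∈ words ∧ [p.2, p.2] ∈ words)) = true := by decide +kernel

theorem sevenWord_mem : (List.replicate 9 [0, 1, 2, 3, 4, 5, 8]).flatten ∈ setup.words :=
  show (List.replicate 9 [0, 1, 2, 3, 4, 5, 8]).flatten ∈ words by decide +kernel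

/-- The point stabiliser has no subgroup of index two. -/
theorem H_no_index_two (L : Subgroup Fi23H.enum.H) (hL : L.index = 2) : False := by
  let G' : ℕ → Fi23H.enum.H := fun x =>
    if h : x < 9 then ⟨setup.g (lm x), g_mem x h⟩ else 1
  have hG' : ∀ x, x < 9 → (G' x : setup.Grp) = setup.g (lm x) := fun x hx => by simp [G', hx]
  have hbr : ∀ x y, x < 9 → y < 9 → (lm x, lm y) ∈ adjacent → (G' x ∈ L ↔ G' y ∈ L) := by
    intro x y hx hy h
    have h1 := of_decide_eq_true (List.all_eq_true.mp adjacent_ok _ h)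
    refine mem_iff_of_braid hL (Subtype.ext ?_)
    simp only [Subgroup.coe_mul, hG' x hx, hG' y hy]
    exact braid h1.1 h1.2.1 h1.2.2
  have e1 := hbr 0 1 (by norm_num) (by norm_num) (by decide)
  have e2 := hbr 1 2 (by norm_num) (by norm_num) (by decide)
  have e3 := hbr 2 3 (by norm_num) (by norm_num) (by decide)
  have e4 := hbr 3 4 (by norm_num) (by norm_num) (by decide)
  have e5 := hbr 4 5 (by norm_num) (by norm_num) (by decide)
  have e6 := hbr 5 6 (by norm_num) (by norm_num) (by decide)
  have e7 := hbr 3 7 (by norm_num) (by norm_num) (by decide)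
  have e8 := hbr 7 8 (by norm_num) (by norm_num) (by decide)
  have hall : ∀ x, x < 9 → (G' x ∈ L ↔ G' 0 ∈ L) := by
    intro x hx
    interval_cases x <;> tauto
  by_cases h0 : G' 0 ∈ L
  · have hle : Fi23H.enum.H ≤ L.map Fi23H.enum.H.subtype := by
      refine (Subgroup.closure_le _).mpr ?_
      rintro _ ⟨s, hs, rfl⟩
      have hs' : s < 9 := hs
      refine ⟨G' s, (hall s hs').mpr h0, ?_⟩
      rw [Subgroup.coe_subtype, hG' s hs']
      interval_cases s <;> simp [prodw, lm, Fi23H.enum, Fi23H.sW]
    have htop : L = ⊤ := by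
      refine eq_top_iff.mpr fun u _ => ?_
      obtain ⟨v, hv, hvu⟩ := hle u.2
      exact (show v = u from Subtype.ext hvu) ▸ hv
    rw [htop, Subgroup.index_top] at hL
    omega
  · set w := (List.replicate 9 [0, 1, 2, 3, 4, 5, 7]).flatten with hw
    have hlt : ∀ x ∈ w, x < 9 := by decide
    have hprod : ((w.map G').prod : setup.Grp) = 1 := by
      rw [SubmonoidClass.coe_list_prod, List.map_map]
      have hmap : w.map (Subtype.val ∘ G') = (w.map lm).map setup.g := by
        rw [List.map_map]
        exact List.map_congr_left fun x hx => hG' x (hlt x hx)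
      rw [hmap, show w.map lm = (List.replicate 9 [0, 1, 2, 3, 4, 5, 8]).flatten by decide]
      exact setup.prod_mem _ sevenWord_mem
    have h1 : (w.map G').prod ∈ L := by
      rw [show (w.map G').prod = 1 from Subtype.ext hprod]
      exact one_mem _
    rw [prod_mem_iff_even hL _ (by
      intro u hu
      obtain ⟨x, hx, rfl⟩ := List.mem_map.mp hu
      exact fun h => h0 ((hall x (hlt x hx)).mp h)), List.length_map] at h1
    rw [show w.length = 63 by decide] at h1
    exact absurd h1 (by decide)

theorem isNonsplitDoubleCover_H : Cfsg.IsNonsplitDoubleCover Fi23H.enum.H Cfsg.Spor.Fi22 := by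
  obtain ⟨φ, e, hφ, he, he0, hinj, hG, hH, ψ, hsurj, hk2, hker⟩ := order_and_action
  haveI : Finite Fi23H.enum.H := H_finite_and_card_le.1
  have hle : ψ.ker ≤ Subgroup.center Fi23H.enum.H := by
    intro y hy
    rw [Subgroup.mem_center_iff]
    intro u
    by_cases hy1 : y = 1
    · simp [hy1]
    · obtain ⟨w, hw, huniq⟩ := (Nat.card_eq_two_iff' (1 : ψ.ker)).mp hk2
      have e1 := huniq ⟨y, hy⟩ (fun h => hy1 (congrArg Subtype.val h))
      have hc : u * y * u⁻¹ ∈ ψ.ker := (MonoidHom.normal_ker ψ).conj_mem y hy u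
      have e2 := huniq ⟨u * y * u⁻¹, hc⟩ (fun h => hy1 (by
        have := congrArg Subtype.val h
        simpa [mul_inv_eq_one] using this))
      exact mul_inv_eq_iff_eq_mul.mp (congrArg Subtype.val (e2.trans e1.symm))
  have hcen : Subgroup.center Fi23H.enum.H = ψ.ker := by
    refine le_antisymm (fun y hy => ?_) hle
    rw [MonoidHom.mem_ker]
    have h1 : ψ y ∈ Subgroup.center Cfsg.Spor.Fi22 := by
      rw [Subgroup.mem_center_iff]
      intro v
      obtain ⟨u, rfl⟩ := hsurj v
      rw [← map_mul, ← map_mul, Subgroup.mem_center_iff.mp hy u]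
    haveI := Fi22.isSimpleGroup_Fi22
    have h2 : Subgroup.center Cfsg.Spor.Fi22 = ⊥ := by
      refine (IsSimpleGroup.eq_bot_or_eq_top_of_normal _ inferInstance).resolve_right fun htop => ?_
      letI : CommGroup Cfsg.Spor.Fi22 := Group.commGroupOfCenterEqTop htop
      have hp : (Nat.card Cfsg.Spor.Fi22).Prime := IsSimpleGroup.prime_card
      rw [Fi22.card_Fi22] at hp
      exact absurd hp (by norm_num)
    rw [h2] at h1
    exact h1
  refine ⟨by rw [hcen, hk2],
    ⟨(QuotientGroup.quotientMulEquivOfEq hcen).trans (QuotientGroup.quotientKerEquivOfSurjective ψ hsurj)⟩,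
    fun L hL => ?_⟩
  refine H_no_index_two L ?_
  rw [hL.index_eq_card, hcen, hk2]

end CfsgLib.CosetEnum.Fi23
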