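import Cfsg.Agent.CosetEnum.Fi23Simple.Cover
import Cfsg.Agent.CosetEnum.Fi23H.Orbits
import Cfsg.Agent.CosetEnum.Simple

set_option autoImplicit false
set_option maxRecDepth 100000
set_option exponentiation.threshold 200000

/-! Maximality of the point stabiliser and simplicity of the presented Fischer group Fi23. -/

namespace CfsgLib.CosetEnum.Fi23H

/-- The suborbits. -/
def suborbits : List ℕ := [R0, R1]

theorem cover : allR (fun i => bif Nat.blt i 31671 then memberOf suborbits (2 ^ suborbits.length - 1) i else true) 15 0 = true := by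
  decide +kernel

theorem no_block (m : ℕ) (hm : m < 2 ^ suborbits.length) : noBlock 31671 15 suborbits m = true := by
  have hm' : m < 4 := hm
  interval_cases m <;> decide +kernel

theorem maximal [Finite CfsgLib.CosetEnum.Fi23.setup.Grp] (φ : CfsgLib.CosetEnum.Fi23.setup.Grp →* Equiv.Perm (Fin enum.n))
    (e : CfsgLib.CosetEnum.Fi23.setup.Grp ⧸ enum.H ≃ Fin enum.n)
    (hφ : ∀ (w : List ℕ), (∀ x ∈ w, x < CfsgLib.CosetEnum.Fi23.setup.k) → ∀ i : Fin enum.n,
      ((φ (prodw CfsgLib.CosetEnum.Fi23.setup.g w))⁻¹ i).val = walk enum.tb w i)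
    (he : ∀ (y : CfsgLib.CosetEnum.Fi23.setup.Grp) (q : CfsgLib.CosetEnum.Fi23.setup.Grp ⧸ enum.H), e (y • q) = φ y (e q))
    (he0 : e ((1 : CfsgLib.CosetEnum.Fi23.setup.Grp) : CfsgLib.CosetEnum.Fi23.setup.Grp ⧸ enum.H) = 0)
    {K : Subgroup CfsgLib.CosetEnum.Fi23.setup.Grp} (hK : enum.H ≤ K) : K = enum.H ∨ K = ⊤ := by
  refine eq_or_eq_top_of_le φ e he he0 suborbits ?_ (d := 15) (show 31671 ≤ 2 ^ 15 by decide) cover no_block hK
  intro o ho
  have key : ∀ (i0 : Fin enum.n) (R dR steps : ℕ),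
      reach enum.tb (fun s => enum.sW.getD s []) dR steps i0.val = R →
      ∀ j, bit R j = true → ∃ h ∈ enum.H, ((φ h)⁻¹ i0).val = j := fun i0 R dR steps hR =>
    reach_mem (H := enum.H) (fun s => enum.sW.getD s []) enum.sW.length (fun s => prodw CfsgLib.CosetEnum.Fi23.setup.g (enum.sW.getD s []))
      (fun s hs => Subgroup.subset_closure ⟨s, hs, rfl⟩)
      (fun s hs i => hφ _ (enum.sW_lt _ (by
        rw [List.getD_eq_getElem _ _ hs]; exact List.getElem_mem hs)) i)
      (fun s hs => List.getD_eq_default _ _ hs) i0 hR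
  have ho' : o < 2 := ho
  interval_cases o
  · exact ⟨⟨1, show 1 < 31671 by decide⟩, key _ _ 15 O0 reach0⟩
  · exact ⟨⟨52, show 52 < 31671 by decide⟩, key _ _ 12 O1 reach1⟩

end CfsgLib.CosetEnum.Fi23H

namespace CfsgLib.CosetEnum.Fi23

open Restrict

theorem jWord_mem : [6, 7, 6, 7, 6, 7] ∈ words ∧ [6, 6] ∈ words ∧ [7, 7] ∈ words := by decide +kernel

theorem normal_eq_top (N : Subgroup setup.Grp) [hN' : N.Normal] (hN : N ≠ ⊥) : N = ⊤ := by
  haveI := finite_grp
  obtain ⟨φ, e, hφ, he, he0, hinj, hG, hH, ψ, hsurj, hk2, hker⟩ := order_and_action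
  have htrans : ∀ M : Subgroup setup.Grp, M.Normal → M ≠ ⊥ → 31671 ∣ Nat.card M := fun M hM hne =>
    @dvd_card_normal _ _ _ φ _ _ _ e he hinj (fun K hK => Fi23H.maximal φ e hφ he he0 hK) M hM hne
  -- transitivity of a normal subgroup
  have hsup : ∀ M : Subgroup setup.Grp, M.Normal → M ≠ ⊥ → M ⊔ Fi23H.enum.H = ⊤ := by
    intro M hM hne
    refine (Fi23H.maximal φ e hφ he he0 le_sup_right).resolve_left fun h => ?_
    have h1 : Nat.card M ∣ Nat.card Fi23H.enum.H :=
      Subgroup.card_dvd_of_le (le_sup_left.trans h.le)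
    rw [hH] at h1
    exact absurd ((htrans M hM hne).trans h1) (by decide +kernel)
  have hcardM : ∀ M : Subgroup setup.Grp, M.Normal → M ≠ ⊥ →
      Nat.card M = 31671 * Nat.card (M.subgroupOf Fi23H.enum.H) := by
    intro M hM hne
    have h1 : M.index = (M.subgroupOf Fi23H.enum.H).index := by
      show M.index = M.relIndex Fi23H.enum.H
      rw [← Subgroup.relIndex_sup_right, sup_comm, hsup M hM hne, Subgroup.relIndex_top_right]
    have h2 := Subgroup.card_mul_index M
    have h3 := Subgroup.card_mul_index (M.subgroupOf Fi23H.enum.H)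
    rw [hG, h1] at h2
    rw [hH] at h3
    have hpos : 0 < (M.subgroupOf Fi23H.enum.H).index :=
      Nat.pos_of_ne_zero Subgroup.index_ne_zero_of_finite
    refine Nat.eq_of_mul_eq_mul_right hpos ?_
    rw [h2, mul_assoc, h3]
    decide +kernel
  haveI : (N.subgroupOf Fi23H.enum.H).Normal := Subgroup.normal_subgroupOf
  haveI := Fi22.isSimpleGroup_Fi22
  rcases IsSimpleGroup.eq_bot_or_eq_top_of_normal ((N.subgroupOf Fi23H.enum.H).map ψ)
    (‹(N.subgroupOf Fi23H.enum.H).Normal›.map ψ hsurj) with h | h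
  · exfalso
    have hle : N.subgroupOf Fi23H.enum.H ≤ ψ.ker := fun y hy => by
      rw [MonoidHom.mem_ker, ← Subgroup.mem_bot, ← h]
      exact ⟨y, hy, rfl⟩
    have hne := htrans N hN' hN
    have key : ∀ M : Subgroup setup.Grp, M.Normal → M ≠ ⊥ → M ≤ N →
        Nat.card (M.subgroupOf Fi23H.enum.H) ∣ 2 := fun M _ _ hMN =>
      hk2 ▸ Subgroup.card_dvd_of_le ((Subgroup.comap_mono hMN).trans hle)
    have hreg : ∀ M : Subgroup setup.Grp, M.Normal → Nat.card M = 31671 → False := fun M hM hcard => by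
      haveI : _root_.Fact (Nat.Prime 23) := ⟨by norm_num⟩
      haveI : NeZero 31671 := ⟨by norm_num⟩
      refine @not_normal_regular setup.Grp _ 31671 _ _ 23 1377 _ (by norm_num) (by norm_num) (by norm_num)
        ?_ htrans M hM hcard
      intro d hd hmod
      have h1 : d ∈ Nat.divisors 1377 := Nat.mem_divisors.mpr ⟨hd, by norm_num⟩
      have h2 : ∀ d ∈ Nat.divisors 1377, d % 23 = 1 → d = 1 := by decide +kernel
      exact h2 d h1 (by rw [Nat.ModEq] at hmod; simpa using hmod)
    rcases (Nat.dvd_prime Nat.prime_two).mp (key N hN' hN le_rfl) with h1 | h1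
    · exact hreg N hN' (by rw [hcardM N hN' hN, h1])
    · have hcN : Nat.card N = 2 * 31671 := by rw [hcardM N hN' hN, h1, mul_comm]
      obtain ⟨M, hM, hMne, hMlt⟩ := exists_normal_lt N (m := 31671) (by decide +kernel) (by norm_num) hcN
      have hMcard := hcardM M hM hMne
      rcases (Nat.dvd_prime Nat.prime_two).mp (key M hM hMne hMlt.le) with h2 | h2
      · exact hreg M hM (by rw [hMcard, h2])
      · exact hMlt.ne (Subgroup.eq_of_le_of_card_ge hMlt.le (by rw [hMcard, h2, hcN]))
  · have hidx : (N.subgroupOf Fi23H.enum.H).index = 1 := by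
      haveI : Finite Fi23H.enum.H := H_finite_and_card_le.1
      have h1 : 64561751654400 ∣ Nat.card (N.subgroupOf Fi23H.enum.H) := by
        have := Subgroup.card_dvd_of_surjective (ψ.subgroupMap (N.subgroupOf Fi23H.enum.H))
          (ψ.subgroupMap_surjective _)
        rwa [h, Subgroup.card_top, Fi22.card_Fi22] at this
      have h2 := Subgroup.card_mul_index (N.subgroupOf Fi23H.enum.H)
      rw [hH] at h2
      obtain ⟨c, hc⟩ := h1
      rw [hc, mul_assoc, mul_comm 2] at h2
      have h3 : c * (N.subgroupOf Fi23H.enum.H).index = 2 :=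
        Nat.eq_of_mul_eq_mul_left (by norm_num) h2
      rcases (Nat.dvd_prime Nat.prime_two).mp (Dvd.intro_left c h3) with h4 | h4
      · exact h4
      · exact (H_no_index_two _ h4).elim
    have hHN : Fi23H.enum.H ≤ N :=
      Subgroup.subgroupOf_eq_top.mp (Subgroup.index_eq_one.mp hidx)
    have h6 : setup.g 6 ∈ N := hHN (g_mem 6 (by norm_num))
    have h7 : setup.g 7 ∈ N := by
      have hb := braid jWord_mem.1 jWord_mem.2.1 jWord_mem.2.2
      have h66 : setup.g 6 * setup.g 6 = 1 := by simpa [prodw] using setup.prod_mem _ jWord_mem.2.1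
      have heq : setup.g 7 = setup.g 6 * setup.g 7 * setup.g 6 * (setup.g 6 * setup.g 7)⁻¹ := by
        rw [hb]; group
      rw [heq]
      exact hN'.conj_mem _ h6 _
    rw [eq_top_iff, ← setup.letSub_all (List.range 10) (fun x hx => List.mem_range.mpr hx)]
    refine (Subgroup.closure_le _).mpr ?_
    rintro _ ⟨x, hx, rfl⟩
    have hx' : x < 10 := List.mem_range.mp hx
    interval_cases x
    exacts [hHN (g_mem 0 (by norm_num)), hHN (g_mem 1 (by norm_num)), hHN (g_mem 2 (by norm_num)),
      hHN (g_mem 3 (by norm_num)), hHN (g_mem 4 (by norm_num)), hHN (g_mem 5 (by norm_num)), h6, h7,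
      hHN (g_mem 7 (by norm_num)), hHN (g_mem 8 (by norm_num))]

theorem isSimpleGroup_Fi23 : IsSimpleGroup Cfsg.Spor.Fi23 := by
  have hne : Nontrivial Cfsg.Spor.Fi23 := (@Finite.one_lt_card_iff_nontrivial _ finite_grp).mp
    (lt_of_lt_of_eq (show (1 : ℕ) < _ by norm_num) (card_Fi23).symm)
  exact { toNontrivial := hne
          eq_bot_or_eq_top_of_normal := fun N hN => (em (N = ⊥)).imp id fun h => @normal_eq_top N hN h }

end CfsgLib.CosetEnum.Fi23
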