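import Cfsg.Agent.CosetEnum.Fi23Simple.Final
import Cfsg.Agent.CosetEnum.Fi23Order.Transpositions
import Cfsg.Prelude.Def_SporadicB

set_option autoImplicit false
set_option maxRecDepth 100000
set_option exponentiation.threshold 200000

/-! The class of 31671 three-transpositions of the presented Fischer group Fi23. -/

namespace CfsgLib.CosetEnum.Fi23

/-- Iterated conjugation by letters. -/
noncomputable def conjList : List ℕ → setup.Grp → setup.Grp
  | [], c => c
  | x :: u, c => conjList u (setup.g x * c * setup.g x)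

theorem conjList_eq : ∀ (u : List ℕ), (∀ x ∈ u, x < 10) → ∀ c : setup.Grp,
    conjList u c = (prodw setup.g u)⁻¹ * c * prodw setup.g u := by
  intro u
  induction u with
  | nil => intro _ c; simp [conjList, prodw]
  | cons a u ih =>
    intro hu c
    have hi : (setup.g a)⁻¹ = setup.g a :=
      (setup.hiv a (show a < setup.k from hu a List.mem_cons_self) (show a < setup.k from hu a List.mem_cons_self)).symm
    rw [conjList, ih (fun x hx => hu x (List.mem_cons_of_mem a hx))]
    simp only [prodw, List.map_cons, List.prod_cons, mul_inv_rev, hi, mul_assoc]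

theorem zEl_eq : Fi23H.zEl = prodw setup.g (zWord.map lm) := by
  have h : zWord.map lm = (List.replicate 9 [1, 2, 3, 4, 5, 6, 8]).flatten := by decide
  rw [h, prodw_replicate]
  simp only [Fi23H.zEl, Fi23H.el10, Fi23H.el9, Fi23H.el8, Fi23H.el7, Fi23H.el6, Fi23H.el5,
    Fi23H.el4, Fi23H.el3, Fi23H.el2, Fi23H.el1, prodw, List.map_cons, List.map_nil, List.prod_cons,
    List.prod_nil, mul_one, pow_succ, pow_zero, one_mul, mul_assoc]

theorem el12_eq : Fi23H.el12 = (prodw setup.g [7])⁻¹ * Fi23H.zEl * prodw setup.g [7] :=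
  (show Fi23H.el12 = conjList [7] Fi23H.zEl from rfl).trans (conjList_eq _ (by decide) _)

theorem el39_eq : Fi23H.el39 = (prodw setup.g [7, 6, 5, 4, 3, 2, 8, 3, 4, 5, 6, 7])⁻¹ * Fi23H.zEl *
    prodw setup.g [7, 6, 5, 4, 3, 2, 8, 3, 4, 5, 6, 7] :=
  (show Fi23H.el39 = conjList [7, 6, 5, 4, 3, 2, 8, 3, 4, 5, 6, 7] Fi23H.zEl from rfl).trans
    (conjList_eq _ (by decide) _)

theorem walk7 : Nat.beq (walk Fi23H.enum.tb [7] 0) 1 = true := by decide +kernel

theorem walk52 : Nat.beq (walk Fi23H.enum.tb [7, 6, 5, 4, 3, 2, 8, 3, 4, 5, 6, 7] 0) 52 = true := by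
  decide +kernel

/-- A class of 31671 transpositions whose centralisers are double covers of Fi22. -/
theorem exists_class :
    ∃ D : Set setup.Grp, Cfsg.IsThreeTranspositionClass D ∧ Nat.card D = 31671 ∧
      ∀ d ∈ D, Cfsg.IsNonsplitDoubleCover (Subgroup.centralizer ({d} : Set setup.Grp)) Cfsg.Spor.Fi22 := by
  haveI := finite_grp
  obtain ⟨φ, e, hφ, he, he0, hinj, hG, hH, ψ, hsurj, hk2, hker⟩ := order_and_action
  set z : setup.Grp := prodw setup.g (zWord.map lm) with hz
  have hzH : z ∈ Fi23H.enum.H := prodw_mem zWord zWord_lt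
  have hz1 : z ≠ 1 := z_ne_one φ hφ
  haveI : Finite Fi23H.enum.H := H_finite_and_card_le.1
  obtain ⟨⟨w, hw⟩, hw1, huniq⟩ := (Nat.card_eq_two_iff' (1 : ψ.ker)).mp hk2
  have hwz : (w : setup.Grp) = z := (hker w hw).resolve_left fun h => hw1 (Subtype.ext h)
  -- the transposition is central in the stabiliser
  have hcomm : ∀ u ∈ Fi23H.enum.H, u * z * u⁻¹ = z := by
    intro u hu
    have hc : (⟨u, hu⟩ : Fi23H.enum.H) * w * (⟨u, hu⟩ : Fi23H.enum.H)⁻¹ ∈ ψ.ker :=
      (MonoidHom.normal_ker ψ).conj_mem w hw _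
    rcases hker _ hc with h | h
    · rw [mul_inv_eq_one, mul_eq_left] at h
      exact absurd (Subtype.ext h) hw1
    · simpa [hwz] using h
  have hzz : z * z = 1 := by
    have h : (⟨w, hw⟩ : ψ.ker) ^ 2 = 1 := by rw [← hk2]; exact pow_card_eq_one'
    have h' := congrArg (fun v : ψ.ker => ((v : Fi23H.enum.H) : setup.Grp)) h
    simpa [pow_two, hwz] using h'
  haveI : _root_.Fact (Nat.Prime 2) := ⟨Nat.prime_two⟩
  have hzo : orderOf z = 2 := orderOf_eq_prime (by rw [pow_two, hzz]) hz1
  have hle : Fi23H.enum.H ≤ Subgroup.centralizer ({z} : Set setup.Grp) := fun u hu => by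
    rw [Subgroup.mem_centralizer_singleton_iff]
    exact mul_inv_eq_iff_eq_mul.mp (hcomm u hu)
  have hC : Subgroup.centralizer ({z} : Set setup.Grp) = Fi23H.enum.H := by
    refine (Fi23H.maximal φ e hφ he he0 hle).resolve_right fun htop => hz1 ?_
    have hnorm : (Subgroup.zpowers z).Normal := ⟨fun y hy g => by
      have hg : g ∈ Subgroup.centralizer ({z} : Set setup.Grp) := htop.symm ▸ Subgroup.mem_top g
      rw [Subgroup.mem_centralizer_singleton_iff] at hg
      obtain ⟨m, rfl⟩ := Subgroup.mem_zpowers_iff.mp hy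
      rw [(show Commute g z from hg).zpow_right m |>.eq, mul_inv_cancel_right]
      exact hy⟩
    by_contra hne
    have h := @dvd_card_normal _ _ _ φ _ _ _ e he hinj (fun K hK => Fi23H.maximal φ e hφ he he0 hK)
      _ hnorm (by rwa [Ne, Subgroup.zpowers_eq_bot])
    rw [Nat.card_zpowers, hzo] at h
    exact absurd (Nat.le_of_dvd two_pos h) (by norm_num [Fi23H.enum])
  refine ⟨conjugatesOf z, ⟨⟨?_, ?_⟩, ⟨z, mem_conjugatesOf_self, rfl⟩, ?_⟩, ?_, ?_⟩
  · intro d hd
    obtain ⟨c, rfl⟩ := isConj_iff.mp (hd : IsConj z _)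
    rw [show c * z * c⁻¹ = MulAut.conj c z from rfl]
    exact ((MulAut.conj c).orderOf_eq z).trans hzo
  · intro d hd d' hd'
    obtain ⟨a, rfl⟩ := isConj_iff.mp (hd : IsConj z _)
    obtain ⟨b, rfl⟩ := isConj_iff.mp (hd' : IsConj z _)
    have hmain : (z * ((a⁻¹ * b) * z * (a⁻¹ * b)⁻¹)) ^ 2 = 1 ∨
        (z * ((a⁻¹ * b) * z * (a⁻¹ * b)⁻¹)) ^ 3 = 1 := by
      generalize a⁻¹ * b = c
      have h0 : ∀ y : setup.Grp, e (y : setup.Grp ⧸ Fi23H.enum.H) = φ y (e ((1 : setup.Grp) : setup.Grp ⧸ Fi23H.enum.H)) := fun y => by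
        rw [← he, MulAction.Quotient.smul_coe, smul_eq_mul, mul_one]
      rw [he0] at h0
      have hconjH : ∀ (h0' : setup.Grp), h0' ∈ Fi23H.enum.H → ∀ y : setup.Grp,
          φ c 0 = φ (h0' * y) 0 →
          z * (c * z * c⁻¹) = h0' * (z * (y * z * y⁻¹)) * h0'⁻¹ := by
        intro h0' hh y hcy
        have h1 : (c : setup.Grp ⧸ Fi23H.enum.H) = ((h0' * y : setup.Grp) : setup.Grp ⧸ Fi23H.enum.H) :=
          e.injective (by rw [h0, h0, hcy])
        obtain ⟨k, hk, hck⟩ : ∃ k ∈ Fi23H.enum.H, c = h0' * y * k :=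
          ⟨(h0' * y)⁻¹ * c, QuotientGroup.eq.mp h1.symm, by group⟩
        have h2 : c * z * c⁻¹ = h0' * (y * z * y⁻¹) * h0'⁻¹ := by
          rw [hck, show h0' * y * k * z * (h0' * y * k)⁻¹ = h0' * y * (k * z * k⁻¹) * (h0' * y)⁻¹ by group,
            hcomm k hk]
          group
        rw [h2]
        conv_lhs => arg 1; rw [← hcomm h0' hh]
        group
      have hrep : ∀ (r : ℕ) (hr : r < Fi23H.enum.n) (u : List ℕ) (p : ℕ), (∀ x ∈ u, x < 10) →
          Nat.beq (walk Fi23H.enum.tb u 0) r = true →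
          (z * ((prodw setup.g u)⁻¹ * z * prodw setup.g u)) ^ p = 1 →
          ∀ R : ℕ, (∀ j, bit R j = true → ∃ h ∈ Fi23H.enum.H, ((φ h)⁻¹ ⟨r, hr⟩).val = j) →
          bit R (φ c 0).val = true → (z * (c * z * c⁻¹)) ^ p = 1 := by
        intro r hr u p hu hwalk hp R hR hbit
        obtain ⟨h, hh, hval⟩ := hR _ hbit
        have hy : (⟨r, hr⟩ : Fin Fi23H.enum.n) = φ (prodw setup.g u)⁻¹ 0 := by
          refine Fin.ext ?_
          rw [map_inv, hφ u (fun x hx => hu x hx) 0]
          exact (Nat.eq_of_beq_eq_true hwalk).symm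
        rw [hconjH h⁻¹ (inv_mem hh) (prodw setup.g u)⁻¹ (by
          rw [map_mul, Equiv.Perm.mul_apply, ← hy, map_inv]
          exact Fin.ext hval.symm), conj_pow, inv_inv, hp]
        group
      have key : ∀ (i0 : Fin Fi23H.enum.n) (R dR steps : ℕ),
          reach Fi23H.enum.tb (fun s => Fi23H.enum.sW.getD s []) dR steps i0.val = R →
          ∀ j, bit R j = true → ∃ h ∈ Fi23H.enum.H, ((φ h)⁻¹ i0).val = j := fun i0 R dR steps hR =>
        reach_mem (H := Fi23H.enum.H) (fun s => Fi23H.enum.sW.getD s []) Fi23H.enum.sW.length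
          (fun s => prodw setup.g (Fi23H.enum.sW.getD s []))
          (fun s hs => Subgroup.subset_closure ⟨s, hs, rfl⟩)
          (fun s hs i => hφ _ (Fi23H.enum.sW_lt _ (by
            rw [List.getD_eq_getElem _ _ hs]; exact List.getElem_mem hs)) i)
          (fun s hs => List.getD_eq_default _ _ hs) i0 hR
      have hmem : memberOf Fi23H.suborbits (2 ^ Fi23H.suborbits.length - 1) (φ c 0).val = true := by
        have hlt : (φ c 0).val < 31671 := (φ c 0).2
        have h1 := allR_spec 15 0 Fi23H.cover (φ c 0).val (Nat.zero_le _) (by omega)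
        rw [show Nat.blt (φ c 0).val 31671 = true by simpa using hlt] at h1
        exact h1
      rcases (memberOf_iff _ _ _).mp hmem with h | ⟨o, ho, -, hbit⟩
      · left
        have hc0 : c ∈ Fi23H.enum.H := by
          have h1 : (c : setup.Grp ⧸ Fi23H.enum.H) = ((1 : setup.Grp) : setup.Grp ⧸ Fi23H.enum.H) :=
            e.injective (by rw [h0, he0]; exact Fin.ext h)
          simpa using QuotientGroup.eq.mp h1.symm
        rw [hcomm c hc0, pow_two, hzz, one_mul]
      · have ho' : o < 2 := ho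
        interval_cases o
        · right
          refine hrep 1 (show 1 < 31671 by decide) [7] 3 (by decide) walk7 ?_ Fi23H.R0 ?_ hbit
          · have h := Fi23H.pair1 φ hφ hinj
            rw [hz, ← zEl_eq, ← el12_eq]
            rw [show Fi23H.el15 = Fi23H.el13 * Fi23H.el13 * Fi23H.el13 from rfl,
              show Fi23H.el13 = Fi23H.zEl * Fi23H.el12 from rfl] at h
            rw [pow_succ, pow_two]
            exact h
          · exact key _ _ 15 Fi23H.O0 Fi23H.reach0
        · left
          refine hrep 52 (show 52 < 31671 by decide) [7, 6, 5, 4, 3, 2, 8, 3, 4, 5, 6, 7] 2 (by decide) walk52 ?_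
            Fi23H.R1 ?_ hbit
          · have h := Fi23H.pair52 φ hφ hinj
            rw [hz, ← zEl_eq, ← el39_eq]
            rw [show Fi23H.el41 = Fi23H.el40 * Fi23H.el40 from rfl,
              show Fi23H.el40 = Fi23H.zEl * Fi23H.el39 from rfl] at h
            rw [pow_two]
            exact h
          · exact key _ _ 12 Fi23H.O1 Fi23H.reach1
    have hconv : a * z * a⁻¹ * (b * z * b⁻¹) = a * (z * ((a⁻¹ * b) * z * (a⁻¹ * b)⁻¹)) * a⁻¹ := by
      group
    rw [hconv, conj_pow, conj_pow]
    rcases hmain with h | h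
    · left; rw [h, mul_one, mul_inv_cancel]
    · right; rw [h, mul_one, mul_inv_cancel]
  · haveI : IsSimpleGroup setup.Grp := isSimpleGroup_Fi23
    have h1 : Subgroup.closure (conjugatesOf z) = Subgroup.normalClosure ({z} : Set setup.Grp) := by
      rw [Subgroup.normalClosure, Group.conjugatesOfSet]
      simp
    refine h1.trans ?_
    refine (IsSimpleGroup.eq_bot_or_eq_top_of_normal _ Subgroup.normalClosure_normal).resolve_left fun h => hz1 ?_
    have := Subgroup.subset_normalClosure (Set.mem_singleton z)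
    rw [h] at this
    exact Subgroup.mem_bot.mp this
  · rw [show conjugatesOf z = MulAction.orbit (ConjAct setup.Grp) z from by
      ext y; rw [ConjAct.mem_orbit_conjAct]; exact isConj_comm]
    rw [Nat.card_coe_set_eq, ← MulAction.index_stabilizer, ConjAct.stabilizer_eq_centralizer]
    show (Subgroup.centralizer ({z} : Set setup.Grp)).index = 31671
    rw [hC]
    exact Fi23H.enum.index_H e
  · intro d hd
    obtain ⟨c, rfl⟩ := isConj_iff.mp (hd : IsConj z _)
    obtain ⟨h1, ⟨h2⟩, h3⟩ := hC.symm ▸ isNonsplitDoubleCover_H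
    let σ : Subgroup.centralizer ({z} : Set setup.Grp) ≃* Subgroup.centralizer ({c * z * c⁻¹} : Set setup.Grp) :=
      ((MulAut.conj c).subgroupMap _).trans (MulEquiv.subgroupCongr (by
        ext y
        simp only [Subgroup.mem_map, MulEquiv.coe_toMonoidHom, Subgroup.mem_centralizer_singleton_iff]
        constructor
        · rintro ⟨x, hx, rfl⟩
          show c * x * c⁻¹ * (c * z * c⁻¹) = c * z * c⁻¹ * (c * x * c⁻¹)
          rw [show c * x * c⁻¹ * (c * z * c⁻¹) = c * (x * z) * c⁻¹ by group, hx]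
          group
        · intro hy
          refine ⟨c⁻¹ * y * c, ?_, by simp [mul_assoc]⟩
          calc c⁻¹ * y * c * z = c⁻¹ * (y * (c * z * c⁻¹)) * c := by group
            _ = z * (c⁻¹ * y * c) := by rw [hy]; group))
    have hcen : (Subgroup.center (Subgroup.centralizer ({z} : Set setup.Grp))).map σ.toMonoidHom =
        Subgroup.center (Subgroup.centralizer ({c * z * c⁻¹} : Set setup.Grp)) := by
      ext y
      simp only [Subgroup.mem_map, MulEquiv.coe_toMonoidHom, Subgroup.mem_center_iff]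
      constructor
      · rintro ⟨x, hx, rfl⟩ u
        obtain ⟨u, rfl⟩ := σ.surjective u
        rw [← map_mul, ← map_mul, hx]
      · intro hy
        refine ⟨σ.symm y, fun u => σ.injective ?_, σ.apply_symm_apply y⟩
        rw [map_mul, map_mul, σ.apply_symm_apply, hy]
    refine ⟨?_, ⟨(QuotientGroup.congr _ _ σ hcen).symm.trans h2⟩, fun L hL => h3 (L.comap σ.toMonoidHom) ?_⟩
    · rw [← hcen, Subgroup.card_map_of_injective (f := σ.toMonoidHom) σ.injective, h1]
    · refine Subgroup.isComplement'_of_card_mul_and_disjoint ?_ ?_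
      · have hc1 := Subgroup.card_map_of_injective (f := σ.toMonoidHom)
          (K := Subgroup.center (Subgroup.centralizer {z})) σ.injective
        have hc2 : Nat.card (L.comap σ.toMonoidHom) = Nat.card L :=
          Nat.card_congr (σ.toEquiv.subtypeEquiv fun _ => Iff.rfl)
        rw [← hc1, hcen, hc2, hL.card_mul]
        exact (Nat.card_congr σ.toEquiv).symm
      · rw [Subgroup.disjoint_def]
        intro x hx hxL
        refine σ.injective ((Subgroup.disjoint_def.mp hL.disjoint (hcen ▸ ⟨x, hx, rfl⟩) hxL).trans (map_one σ).symm)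

end CfsgLib.CosetEnum.Fi23
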